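import Mathlib
import Cfsg.Prelude.Def_Sz

/-!
Non-trivial words take non-trivial values in large Suzuki groups.
-/

set_option autoImplicit false

namespace CfsgLib.SuzukiLaws

open Matrix Polynomial Cfsg.Lie

variable {F : Type*} [Field F]

/-- The torus element with parameter `s`. -/
def torus (e : ℕ) (s : Fˣ) : GL (Fin 4) F where
  val := diagonal ![(s : F) ^ (e + 1), (s : F), ((s⁻¹ : Fˣ) : F), ((s⁻¹ : Fˣ) : F) ^ (e + 1)]
  inv := diagonal ![((s⁻¹ : Fˣ) : F) ^ (e + 1), ((s⁻¹ : Fˣ) : F), (s : F), (s : F) ^ (e + 1)]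
  val_inv := by
    rw [diagonal_mul_diagonal, ← diagonal_one]
    congr 1
    funext i
    fin_cases i <;> simp
  inv_val := by
    rw [diagonal_mul_diagonal, ← diagonal_one]
    congr 1
    funext i
    fin_cases i <;> simp

theorem torus_mem [CharP F 2] [Fintype F] (m : ℕ) (hF : Fintype.card F = 2 ^ (2 * m + 1))
    (s : Fˣ) : torus (2 ^ (m + 1)) s ∈ Sz F (2 ^ (m + 1)) := by
  set e := 2 ^ (m + 1) with he
  apply Subgroup.subset_closure
  refine ⟨fun u v => ?_, ?_⟩
  · simp [torus, altForm4, Units.coeHom_apply, mulVec_diagonal]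
    have h1 : (s : F) ^ (e + 1) * ((s : F)⁻¹) ^ (e + 1) = 1 := by
      rw [← mul_pow, mul_inv_cancel₀ s.ne_zero, one_pow]
    have h2 : (s : F) * (s : F)⁻¹ = 1 := mul_inv_cancel₀ s.ne_zero
    linear_combination (u 0 * v 3 + u 3 * v 0) * h1 + (u 1 * v 2 + u 2 * v 1) * h2
  · have hee : ∀ x : F, x ^ (e * e) = x ^ 2 := by
      intro x
      rw [he, ← pow_add, show m + 1 + (m + 1) = 2 * m + 1 + 1 by omega, pow_succ, pow_mul,
        ← hF, FiniteField.pow_card]
    have hzero : e ≠ 0 := by positivity
    have key : ∀ x : F, x ≠ 0 → x ^ (e + 1) * x = (x ^ (e + 1)) ^ e ∧ x ^ (e + 1) * x⁻¹ = x ^ e := by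
      intro x hx
      refine ⟨?_, ?_⟩
      · rw [← pow_mul, add_mul, one_mul, pow_add _ (e * e), hee, ← pow_succ,
          show e + 1 + 1 = 2 + e by omega, pow_add]
      · rw [pow_succ, mul_assoc, mul_inv_cancel₀ hx, mul_one]
    obtain ⟨k1, k2⟩ := key (s : F) s.ne_zero
    obtain ⟨k3, k4⟩ := key (s : F)⁻¹ (inv_ne_zero s.ne_zero)
    rw [inv_inv] at k4
    ext p r
    fin_cases p <;> fin_cases r <;>
      simp [torus, star4, pairOf, zero_pow hzero]
    all_goals first
      | linear_combination k1
      | linear_combination k2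
      | linear_combination k3
      | linear_combination k4

/-- An involution of Sz(2) all of whose corner entries are non-zero. -/
def cornerMat (F : Type*) [Field F] : Matrix (Fin 4) (Fin 4) F :=
  !![1, 1, 1, 1; 1, 0, 0, 1; 0, 1, 0, 1; 1, 0, 1, 1]

theorem cornerMat_sq [CharP F 2] : cornerMat F * cornerMat F = 1 := by
  have h2 : (2 : F) = 0 := CharTwo.two_eq_zero
  ext i j
  fin_cases i <;> fin_cases j <;>
    simp [cornerMat, Matrix.mul_apply, Fin.sum_univ_four] <;> grind

/-- `cornerMat` as a unit. -/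
def cornerUnit (F : Type*) [Field F] [CharP F 2] : GL (Fin 4) F :=
  ⟨cornerMat F, cornerMat F, cornerMat_sq, cornerMat_sq⟩

theorem cornerUnit_inv [CharP F 2] : (cornerUnit F)⁻¹ = cornerUnit F := Units.ext rfl

theorem cornerUnit_mem [CharP F 2] (k : ℕ) : cornerUnit F ∈ Sz F (2 ^ k) := by
  have h2 : (2 : F) = 0 := CharTwo.two_eq_zero
  apply Subgroup.subset_closure
  refine ⟨fun u v => ?_, ?_⟩
  · simp [cornerUnit, cornerMat, altForm4, Units.coeHom_apply, Matrix.mulVec, dotProduct,
      Fin.sum_univ_four]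
    grind
  · ext p r
    fin_cases p <;> fin_cases r <;> simp [cornerUnit, cornerMat, star4, pairOf] <;> grind

/-- Corner index attached to a sign. -/
def corner (b : Bool) : Fin 4 := cond b 0 3

theorem cornerMat_corner (a b : Bool) : cornerMat F (corner a) (corner b) = 1 := by
  cases a <;> cases b <;> simp [corner, cornerMat]

/-- A family `g` is represented, with weight `n`, by a polynomial matrix with top matrix `T`. -/
def Rep (e : ℕ) (g : Fˣ → GL (Fin 4) F) (n : ℕ) (T : Matrix (Fin 4) (Fin 4) F) : Prop :=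
  ∃ A : Matrix (Fin 4) (Fin 4) F[X], (∀ i j, (A i j).natDegree ≤ 2 * ((e + 1) * n)) ∧
    (∀ i j, (A i j).coeff (2 * ((e + 1) * n)) = T i j) ∧
    ∀ (s : Fˣ) i j, (A i j).eval (s : F) = (s : F) ^ ((e + 1) * n) * (g s).1 i j

variable {e : ℕ}

theorem Rep.mul {g h : Fˣ → GL (Fin 4) F} {n k : ℕ} {T U : Matrix (Fin 4) (Fin 4) F}
    (hg : Rep e g n T) (hh : Rep e h k U) : Rep e (fun s => g s * h s) (n + k) (T * U) := by
  obtain ⟨A, hA1, hA2, hA3⟩ := hg
  obtain ⟨B, hB1, hB2, hB3⟩ := hh
  refine ⟨A * B, fun i j => ?_, fun i j => ?_, fun s i j => ?_⟩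
  · rw [Matrix.mul_apply, Nat.mul_add, Nat.mul_add]
    refine natDegree_sum_le_of_forall_le _ _ fun l _ => ?_
    exact natDegree_mul_le.trans (Nat.add_le_add (hA1 i l) (hB1 l j))
  · rw [Matrix.mul_apply, Matrix.mul_apply, finset_sum_coeff, Nat.mul_add, Nat.mul_add]
    refine Finset.sum_congr rfl fun l _ => ?_
    rw [coeff_mul_add_eq_of_natDegree_le (hA1 i l) (hB1 l j), hA2, hB2]
  · rw [Matrix.mul_apply, eval_finsetSum, Units.val_mul, Matrix.mul_apply, Finset.mul_sum,
      Nat.mul_add, pow_add]
    refine Finset.sum_congr rfl fun l _ => ?_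
    rw [eval_mul, hA3, hB3]
    ring

theorem rep_const (g : GL (Fin 4) F) : Rep e (fun _ => g) 0 g.1 :=
  ⟨g.1.map C, fun i j => by simp, fun i j => by simp, fun s i j => by simp⟩

theorem rep_torus (he : 1 ≤ e) (b : Bool) :
    Rep e (fun s : Fˣ => cond b (torus e s) (torus e s)⁻¹) 1
      (Matrix.single (corner b) (corner b) 1) := by
  refine ⟨diagonal (cond b ![X ^ (2 * (e + 1)), X ^ (e + 2), X ^ e, 1]
      ![1, X ^ e, X ^ (e + 2), X ^ (2 * (e + 1))]), fun i j => ?_, fun i j => ?_, fun s i j => ?_⟩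
  · fin_cases i <;> fin_cases j <;> cases b <;> simp <;> omega
  · fin_cases i <;> fin_cases j <;> cases b <;>
      simp [corner, Matrix.single_apply, coeff_X_pow, coeff_one] <;> omega
  · have hs : (s : F) ≠ 0 := s.ne_zero
    fin_cases i <;> fin_cases j <;> cases b <;>
      simp [torus, Units.inv_mk, ← pow_mul] <;> field_simp <;> ring

theorem rep_torus_pow (he : 1 ≤ e) (b : Bool) :
    ∀ n : ℕ, Rep e (fun s : Fˣ => cond b (torus e s ^ (n + 1)) (torus e s ^ (n + 1))⁻¹) (n + 1)
      (Matrix.single (corner b) (corner b) 1) := by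
  intro n
  induction n with
  | zero => cases b <;> simpa using! rep_torus he _
  | succ n ih =>
    have := ih.mul (rep_torus he b)
    rw [Matrix.single_mul_single_same, one_mul] at this
    convert this using 1
    funext s
    cases b
    · show (torus e s ^ (n + 1 + 1))⁻¹ = (torus e s ^ (n + 1))⁻¹ * (torus e s)⁻¹
      rw [← _root_.mul_inv_rev, ← pow_succ']
    · show torus e s ^ (n + 1 + 1) = torus e s ^ (n + 1) * torus e s
      rw [pow_succ]

theorem rep_torus_zpow (he : 1 ≤ e) {j : ℤ} (hj : j ≠ 0) :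
    ∃ b, Rep e (fun s : Fˣ => torus e s ^ j) j.natAbs
      (Matrix.single (corner b) (corner b) 1) := by
  obtain ⟨n, rfl | rfl⟩ := Int.eq_nat_or_neg j
  · obtain ⟨k, rfl⟩ := Nat.exists_eq_add_one_of_ne_zero (n := n) (by simpa using hj)
    exact ⟨true, by simpa only [zpow_natCast, Int.natAbs_natCast] using! rep_torus_pow he true k⟩
  · obtain ⟨k, rfl⟩ := Nat.exists_eq_add_one_of_ne_zero (n := n) (by simpa using hj)
    refine ⟨false, ?_⟩
    simpa only [_root_.zpow_neg, zpow_natCast, Int.natAbs_neg, Int.natAbs_natCast]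
      using! rep_torus_pow he false k

/-- The substituted value of a letter. -/
def letter [CharP F 2] (e : ℕ) (s : Fˣ) (i : ℕ) : GL (Fin 4) F :=
  torus e s ^ (i + 1) * (cornerUnit F * torus e s * cornerUnit F) * (torus e s ^ (i + 1))⁻¹

theorem letter_inv [CharP F 2] (e : ℕ) (s : Fˣ) (i : ℕ) : (letter e s i)⁻¹ =
    torus e s ^ (i + 1) * (cornerUnit F * (torus e s)⁻¹ * cornerUnit F) * (torus e s ^ (i + 1))⁻¹ := by
  simp only [letter, _root_.mul_inv_rev, inv_inv, cornerUnit_inv, mul_assoc]

/-- The weight of a list of letters. -/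
def weight : List (ℕ × Bool) → ℕ
  | [] => 0
  | l :: L => 2 * (l.1 + 1) + 1 + weight L

theorem word_rep [CharP F 2] (he : 1 ≤ e) :
    ∀ (L : List (ℕ × Bool)) (i : ℕ) (b : Bool), FreeGroup.IsReduced ((i, b) :: L) →
      ∃ (Y : Fˣ → GL (Fin 4) F) (n : ℕ) (r : Fin 4 → F), r ≠ 0 ∧ 1 ≤ n ∧
        n + (i + 1) ≤ weight ((i, b) :: L) ∧ Rep e Y n (vecMulVec (Pi.single (corner b) 1) r) ∧
        ∀ s : Fˣ, (((i, b) :: L).map fun l => cond l.2 (letter e s l.1) (letter e s l.1)⁻¹).prod
          = torus e s ^ (i + 1) * cornerUnit F * Y s := by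
  intro L
  induction L with
  | nil =>
    intro i b _
    obtain ⟨b', hb'⟩ := rep_torus_zpow (F := F) he (j := -((i + 1 : ℕ) : ℤ)) (by omega)
    have h := ((rep_torus (F := F) he b).mul (rep_const (cornerUnit F))).mul hb'
    set r : Fin 4 → F := fun j => if j = corner b' then 1 else 0 with hrdef
    have hmat : Matrix.single (corner b) (corner b) (1 : F) * (cornerUnit F).1
        * Matrix.single (corner b') (corner b') 1 = vecMulVec (Pi.single (corner b) 1) r := by
      rw [Matrix.single_mul_mul_single, one_mul, mul_one]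
      ext k l
      simp [hrdef, vecMulVec, cornerUnit, cornerMat_corner, Matrix.single_apply, Pi.single_apply,
        eq_comm (a := corner b), eq_comm (a := corner b')]
      split_ifs <;> simp_all
    rw [hmat] at h
    refine ⟨_, _, r, fun h0 => ?_, ?_, ?_, h, fun s => ?_⟩
    · simpa [hrdef] using congrFun h0 (corner b')
    · omega
    · simp only [weight, Int.natAbs_neg, Int.natAbs_natCast]
      omega
    · simp only [List.map_cons, List.map_nil, List.prod_cons, List.prod_nil, mul_one,
        letter_inv, _root_.zpow_neg, zpow_natCast]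
      cases b <;> simp [letter, mul_assoc]
  | cons l L ih =>
    intro i b hred
    obtain ⟨i', b'⟩ := l
    rw [FreeGroup.isReduced_cons_cons] at hred
    obtain ⟨Y, n, r, hr, hn, hw, hY, hval⟩ := ih i' b' hred.2
    by_cases hii : i = i'
    · subst hii
      obtain rfl : b = b' := hred.1 rfl
      have h := (rep_torus (F := F) he b).mul hY
      rw [Matrix.mul_vecMulVec] at h
      have e1 : Matrix.single (corner b) (corner b) (1 : F) *ᵥ Pi.single (corner b) 1
          = Pi.single (corner b) 1 := by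
        funext k
        simp [Matrix.single_apply, Pi.single_apply, eq_comm]
      rw [e1] at h
      refine ⟨_, _, r, hr, by omega, ?_, h, fun s => ?_⟩
      · simp only [weight] at hw ⊢
        omega
      · rw [List.map_cons, List.prod_cons, hval]
        have hc : cornerUnit F * cornerUnit F = 1 := Units.ext cornerMat_sq
        cases b <;> simp only [cond_true, cond_false, letter_inv] <;>
          simp only [letter, mul_assoc, inv_mul_cancel_left] <;>
          simp only [← mul_assoc (cornerUnit F) (cornerUnit F), hc, one_mul]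
    · obtain ⟨b'', hb''⟩ := rep_torus_zpow (F := F) he (j := (i' : ℤ) - i) (by omega)
      have h := (((rep_torus (F := F) he b).mul (rep_const (cornerUnit F))).mul hb'').mul
        ((rep_const (e := e) (cornerUnit F)).mul hY)
      have hmat : Matrix.single (corner b) (corner b) (1 : F) * (cornerUnit F).1
          * Matrix.single (corner b'') (corner b'') 1
          * ((cornerUnit F).1 * vecMulVec (Pi.single (corner b') 1) r)
          = vecMulVec (Pi.single (corner b) 1) r := by
        rw [Matrix.single_mul_mul_single, one_mul, mul_one]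
        simp only [cornerUnit, cornerMat_corner, Matrix.mul_vecMulVec, Matrix.mulVec_mulVec]
        congr 1
        funext k
        rw [Matrix.mulVec_single_one, Matrix.col_apply]
        simp [Matrix.mul_apply, Matrix.single_apply, Pi.single_apply, cornerMat_corner, ite_and,
          eq_comm]
      rw [hmat] at h
      refine ⟨_, _, r, hr, ?_, ?_, h, fun s => ?_⟩
      rotate_left 2
      · rw [List.map_cons, List.prod_cons, hval]
        have hz : (torus e s) ^ ((i' : ℤ) - i) = (torus e s ^ (i + 1))⁻¹ * torus e s ^ (i' + 1) := by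
          rw [← zpow_natCast, ← zpow_natCast, ← _root_.zpow_neg, ← _root_.zpow_add]
          congr 1
          push_cast
          ring
        rw [hz]
        cases b <;> simp only [cond_true, cond_false, letter_inv] <;>
          simp only [letter, mul_assoc]
      · omega
      · simp only [weight] at hw ⊢
        omega

theorem exists_value_ne_one (w : FreeGroup ℕ) (hw : w ≠ 1) :
    ∃ N : ℕ, ∀ (F : Type*) [Field F] [Fintype F] (m : ℕ), N ≤ m →
      Fintype.card F = 2 ^ (2 * m + 1) →
      ∃ f : ℕ → ↥(Sz F (2 ^ (m + 1))), FreeGroup.lift f w ≠ 1 := by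
  refine ⟨weight w.toWord + 4, ?_⟩
  intro F _ _ m hm hF
  have hchar : CharP F 2 := by
    have h := (Nat.cast_card_eq_zero F : ((Fintype.card F : ℕ) : F) = 0)
    rw [hF, Nat.cast_pow] at h
    exact CharTwo.of_one_ne_zero_of_two_eq_zero one_ne_zero (by exact_mod_cast (pow_eq_zero_iff (by omega)).1 h)
  set e := 2 ^ (m + 1) with he
  have he1 : 1 ≤ e := Nat.one_le_two_pow
  obtain ⟨⟨i, b⟩, L, hL⟩ : ∃ l L, w.toWord = l :: L :=
    List.exists_cons_of_ne_nil fun h => hw (FreeGroup.toWord_eq_nil_iff.1 h)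
  have hred : FreeGroup.IsReduced ((i, b) :: L) := hL ▸ FreeGroup.isReduced_toWord
  obtain ⟨Y, n, r, hr, hn, hwt, hY, hval⟩ := word_rep (F := F) he1 L i b hred
  have hT := ((rep_torus_pow (F := F) he1 true i).mul (rep_const (cornerUnit F))).mul hY
  set W : Fˣ → GL (Fin 4) F := fun s => torus e s ^ (i + 1) * cornerUnit F * Y s with hW
  obtain ⟨A, hA1, hA2, hA3⟩ := hT
  obtain ⟨j, hj⟩ := Function.ne_iff.1 hr
  have hT0 : (A 0 j).coeff (2 * ((e + 1) * (i + 1 + 0 + n))) ≠ 0 := by
    rw [hA2]
    simp only [cond_true, cornerUnit, Matrix.mul_vecMulVec]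
    rw [Matrix.mulVec_single_one]
    simp [vecMulVec, corner, Matrix.mul_apply, Matrix.single_apply, Fin.sum_univ_four] at hj ⊢
    have := cornerMat_corner (F := F) true b
    simp [corner] at this
    rw [this]
    exact ⟨one_ne_zero, hj⟩
  by_contra hall
  push Not at hall
  apply hT0
  set N := (e + 1) * (i + 1 + 0 + n) with hN
  set δ : F := if (0 : Fin 4) = j then 1 else 0 with hδ
  have hone : ∀ s : Fˣ, W s = 1 := by
    intro s
    have hmem : ∀ k, letter e s k ∈ Sz F e := fun k => by
      have h1 := torus_mem m hF s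
      have h2 := cornerUnit_mem (F := F) (m + 1)
      exact mul_mem (mul_mem (pow_mem h1 _) (mul_mem (mul_mem h2 h1) h2))
        (inv_mem (pow_mem h1 _))
    have := congrArg Subtype.val (hall fun k => ⟨letter e s k, hmem k⟩)
    rw [OneMemClass.coe_one] at this
    rw [hW]
    simp only
    rw [← this, ← hval, ← hL]
    conv_rhs => rw [← FreeGroup.mk_toWord (x := w), FreeGroup.lift_mk]
    rw [Subgroup.val_list_prod, List.map_map]
    congr 1
    refine List.map_congr_left fun l _ => ?_
    rcases l with ⟨k, c⟩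
    cases c <;> rfl
  set Q : F[X] := (A 0 j - C δ * X ^ N) * X with hQ
  have hQ0 : Q = 0 := by
    apply eq_zero_of_natDegree_lt_card_of_eval_eq_zero Q (f := id) Function.injective_id
    · intro x
      rcases eq_or_ne x 0 with rfl | hx
      · simp [hQ]
      · have := hA3 (Units.mk0 x hx) 0 j
        have h1 := hone (Units.mk0 x hx)
        simp only [hW] at h1
        simp only [cond_true] at this
        rw [show (torus e (Units.mk0 x hx) ^ (i + 1) * cornerUnit F * Y (Units.mk0 x hx)).1
          = 1 by rw [h1]; rfl] at this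
        simp only [Units.val_mk0, Matrix.one_apply] at this
        simp only [id, hQ, eval_mul, eval_sub, eval_C, eval_pow, eval_X, this, hδ, hN]
        ring
    · have hd : Q.natDegree ≤ 2 * N + 1 := by
        refine natDegree_mul_le.trans (Nat.add_le_add ?_ natDegree_X_le)
        refine (natDegree_sub_le _ _).trans (max_le (hA1 0 j) ?_)
        exact (natDegree_C_mul_X_pow_le δ N).trans (by omega)
      rw [hF]
      refine hd.trans_lt ?_
      rw [hL] at hm
      have h1 : i + 1 + 0 + n < 2 ^ (m - 3) :=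
        lt_of_le_of_lt (by omega) (Nat.lt_two_pow_self (n := m - 3)) |>.trans_le le_rfl
      calc 2 * N + 1 < 2 * ((2 ^ (m + 2)) * 2 ^ (m - 3)) + 2 := by
            have : N ≤ 2 ^ (m + 2) * 2 ^ (m - 3) := Nat.mul_le_mul (by rw [he, pow_succ 2 (m + 1)]; omega) h1.le
            omega
        _ ≤ 2 ^ (2 * m + 1) := by
            rw [← pow_add, show m + 2 + (m - 3) = 2 * m - 1 by omega,
              show 2 * m + 1 = (2 * m - 1) + 2 by omega, pow_add]
            have : 1 ≤ 2 ^ (2 * m - 1) := Nat.one_le_two_pow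
            omega
  rw [hQ, mul_eq_zero, sub_eq_zero] at hQ0
  rcases hQ0 with h | h
  · rw [h, coeff_C_mul, coeff_X_pow, if_neg, mul_zero]
    have : 0 < N := Nat.mul_pos (by omega) (by omega)
    omega
  · exact absurd h X_ne_zero

end CfsgLib.SuzukiLaws
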