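import Mathlib
import Cfsg.Prelude.Def_Sz
import Cfsg.Agent.Lib.Spectrum.Suzuki
import Cfsg.Agent.Lib.SuzukiLaws.Basic

/-!
Borel decomposition of the Suzuki groups, and: a homomorphism killing the centre of the
unipotent radical is trivial.
-/

set_option autoImplicit false

namespace CfsgLib.SuzukiLaws

open Matrix Cfsg.Lie CfsgLib.Spectrum

variable {F : Type*} [Field F] [Fintype F] [CharP F 2] {m : ℕ}

theorem pow_q₀_add (m : ℕ) (x y : F) :
    (x + y) ^ 2 ^ (m + 1) = x ^ 2 ^ (m + 1) + y ^ 2 ^ (m + 1) :=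
  add_pow_char_pow x y 2 (m + 1)

theorem pow_q₀_sq (hF : Fintype.card F = 2 ^ (2 * m + 1)) (x : F) :
    (x ^ 2 ^ (m + 1)) ^ 2 ^ (m + 1) = x ^ 2 := by
  rw [← pow_mul, ← pow_add, show m + 1 + (m + 1) = 2 * m + 1 + 1 by omega, pow_succ, pow_mul,
    ← hF, FiniteField.pow_card]

/-- The general element of the unipotent radical. -/
def uMat (m : ℕ) (a b : F) : Matrix (Fin 4) (Fin 4) F :=
  !![1, a, b, a * b + a * a * a ^ 2 ^ (m + 1) + b ^ 2 ^ (m + 1);
     0, 1, a ^ 2 ^ (m + 1), b + a * a ^ 2 ^ (m + 1);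
     0, 0, 1, a;
     0, 0, 0, 1]

theorem uMat_det (m : ℕ) (a b : F) : (uMat m a b).det = 1 := by
  simp [det4_eq, uMat]

/-- `uMat` as a unit. -/
noncomputable def uUnit (m : ℕ) (a b : F) : GL (Fin 4) F :=
  Matrix.GeneralLinearGroup.mkOfDetNeZero (uMat m a b) (by rw [uMat_det]; exact one_ne_zero)

theorem uUnit_val (m : ℕ) (a b : F) : (uUnit m a b).1 = uMat m a b := rfl

theorem uUnit_mem (hF : Fintype.card F = 2 ^ (2 * m + 1)) (a b : F) :
    uUnit m a b ∈ Sz F (2 ^ (m + 1)) := by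
  have h2 : (2 : F) = 0 := CharTwo.two_eq_zero
  apply Subgroup.subset_closure
  refine ⟨fun u v => ?_, ?_⟩
  · simp [uUnit_val, uMat, altForm4, Units.coeHom_apply, Matrix.mulVec, dotProduct,
      Fin.sum_univ_four]
    grind
  · have ha := pow_q₀_sq hF a
    have hb := pow_q₀_sq hF b
    have he : 2 ^ (m + 1) ≠ 0 := by positivity
    ext p r
    fin_cases p <;> fin_cases r <;>
      simp [star4, pairOf, uUnit_val, uMat, zero_pow he, pow_q₀_add, mul_pow, ha, hb] <;> grind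

theorem eq_uUnit (hF : Fintype.card F = 2 ^ (2 * m + 1)) {g : GL (Fin 4) F}
    (hg : g ∈ Sz F (2 ^ (m + 1))) (hd : ∀ i, g.1 i i = 1) (hu : ∀ i j, j < i → g.1 i j = 0) :
    g = uUnit m (g.1 0 1) (g.1 0 2) := by
  have h2 : (2 : F) = 0 := CharTwo.two_eq_zero
  obtain ⟨hsp, hst⟩ := sz_mem hg
  have hC := sp4_col hsp
  have c13 := congrFun (congrFun hC 1) 3
  have c23 := congrFun (congrFun hC 2) 3
  have s01 := congrFun (congrFun hst 0) 1
  have s02 := congrFun (congrFun hst 0) 2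
  simp [Matrix.mul_apply, Fin.sum_univ_four, antiJ, hd, hu] at c13 c23
  simp [star4, pairOf, hd, hu] at s01 s02
  have k1 : g.1 2 3 = g.1 0 1 := by grind
  have k2 : g.1 1 3 = g.1 0 2 + g.1 0 1 * g.1 0 1 ^ 2 ^ (m + 1) := by grind
  have k3 : g.1 0 3 = g.1 0 1 * g.1 0 2 + g.1 0 1 * g.1 0 1 * g.1 0 1 ^ 2 ^ (m + 1)
      + g.1 0 2 ^ 2 ^ (m + 1) := by grind
  apply Units.ext
  rw [uUnit_val]
  ext i j
  fin_cases i <;> fin_cases j <;> simp [uMat, hd, hu, s01, k1, k2, k3]

/-- Elements of the unipotent radical in the group. -/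
noncomputable def U (hF : Fintype.card F = 2 ^ (2 * m + 1)) (a b : F) : Sz F (2 ^ (m + 1)) :=
  ⟨uUnit m a b, uUnit_mem hF a b⟩

theorem U_mul (hF : Fintype.card F = 2 ^ (2 * m + 1)) (a b a' b' : F) :
    U hF a b * U hF a' b' = U hF (a + a') (b + b' + a * a' ^ 2 ^ (m + 1)) := by
  apply Subtype.ext
  have h := eq_uUnit hF (U hF a b * U hF a' b').2
    (fun i => by fin_cases i <;> simp [U, uUnit_val, uMat, Matrix.mul_apply, Fin.sum_univ_four])
    (fun i j hij => by
      fin_cases i <;> fin_cases j <;> simp at hij <;>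
        simp [U, uUnit_val, uMat, Matrix.mul_apply, Fin.sum_univ_four])
  rw [h]
  simp only [U, Subgroup.coe_mul, Units.val_mul, uUnit_val]
  congr 1 <;> simp [uMat, Matrix.mul_apply, Fin.sum_univ_four] <;> ring

theorem U_zero (hF : Fintype.card F = 2 ^ (2 * m + 1)) : U hF 0 0 = 1 := by
  apply Subtype.ext
  apply Units.ext
  have he : 2 ^ (m + 1) ≠ 0 := by positivity
  ext i j
  fin_cases i <;> fin_cases j <;> simp [U, uUnit_val, uMat, zero_pow he]

/-- The torus element in the group. -/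
def T (hF : Fintype.card F = 2 ^ (2 * m + 1)) (s : Fˣ) : Sz F (2 ^ (m + 1)) :=
  ⟨torus (2 ^ (m + 1)) s, torus_mem m hF s⟩

theorem T_mul (hF : Fintype.card F = 2 ^ (2 * m + 1)) (s t : Fˣ) :
    T hF s * T hF t = T hF (s * t) := by
  apply Subtype.ext
  apply Units.ext
  simp only [T, Subgroup.coe_mul, Units.val_mul, torus, diagonal_mul_diagonal]
  congr 1
  funext i
  fin_cases i <;> simp [mul_pow, mul_comm]

theorem T_mul_U (hF : Fintype.card F = 2 ^ (2 * m + 1)) (s : Fˣ) (a b : F) :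
    T hF s * U hF a b =
      U hF ((s : F) ^ 2 ^ (m + 1) * a) ((s : F) ^ (2 ^ (m + 1) + 2) * b) * T hF s := by
  have hs : (s : F) ≠ 0 := s.ne_zero
  have h2 : (2 : F) = 0 := CharTwo.two_eq_zero
  set x := T hF s * U hF a b * (T hF s)⁻¹ with hx
  have hxv : ∀ i j, x.1.1 i j = (torus (2 ^ (m + 1)) s).1 i i * uMat m a b i j
      * (torus (2 ^ (m + 1)) s).inv j j := by
    intro i j
    simp only [hx, T, U, Subgroup.coe_mul, Subgroup.coe_inv, Units.val_mul, uUnit_val, torus,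
      Units.inv_mk]
    simp [Matrix.mul_diagonal, Matrix.diagonal_mul]
  have hx' : x = U hF ((s : F) ^ 2 ^ (m + 1) * a) ((s : F) ^ (2 ^ (m + 1) + 2) * b) := by
    apply Subtype.ext
    rw [eq_uUnit hF x.2 (fun i => ?_) (fun i j hij => ?_)]
    · simp only [U]
      congr 1 <;> rw [hxv] <;> simp [torus, uMat] <;> field_simp <;> ring
    · rw [hxv]
      fin_cases i <;> simp [torus, uMat, hs]
    · rw [hxv]
      fin_cases i <;> fin_cases j <;> simp at hij <;> simp [uMat]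
  rw [← hx', hx, inv_mul_cancel_right]

/-- The Weyl element in the group. -/
def W (hF : Fintype.card F = 2 ^ (2 * m + 1)) : Sz F (2 ^ (m + 1)) :=
  ⟨antiJUnit, antiJUnit_mem_sz _⟩

theorem W_mul_W (hF : Fintype.card F = 2 ^ (2 * m + 1)) : W hF * W hF = 1 :=
  Subtype.ext (Units.ext antiJ_mul_self)

theorem W_mul_T (hF : Fintype.card F = 2 ^ (2 * m + 1)) (s : Fˣ) :
    W hF * T hF s * W hF = T hF s⁻¹ := by
  apply Subtype.ext
  apply Units.ext
  ext i j
  fin_cases i <;> fin_cases j <;>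
    simp [W, T, antiJUnit, antiJ, torus, Matrix.mul_apply, Matrix.diagonal_apply,
      Matrix.vecMul_diagonal, Fin.sum_univ_four]

theorem col_zero (hF : Fintype.card F = 2 ^ (2 * m + 1)) {g : GL (Fin 4) F}
    (hg : g ∈ Sz F (2 ^ (m + 1))) :
    (g.1 3 0 = 0 → g.1 2 0 = 0 ∧ g.1 1 0 = 0) ∧
    g.1 0 0 * g.1 3 0 * g.1 3 0 ^ 2 ^ (m + 1) + g.1 1 0 * g.1 2 0 * g.1 3 0 ^ 2 ^ (m + 1)
      + g.1 2 0 * g.1 2 0 * g.1 2 0 ^ 2 ^ (m + 1)
      + g.1 3 0 * g.1 3 0 * g.1 1 0 ^ 2 ^ (m + 1) = 0 := by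
  have h2 : (2 : F) = 0 := CharTwo.two_eq_zero
  obtain ⟨hsp, hst⟩ := sz_mem hg
  have c01 := congrFun (congrFun (sp4_col hsp) 0) 1
  have s0 := congrFun (congrFun hst 0) 0
  have s1 := congrFun (congrFun hst 1) 0
  have s2 := congrFun (congrFun hst 2) 0
  have s3 := congrFun (congrFun hst 3) 0
  simp [Matrix.mul_apply, Fin.sum_univ_four, antiJ] at c01
  simp [star4, pairOf] at s0 s1 s2 s3
  set P := g.1 1 0 * g.1 2 1 + g.1 2 0 * g.1 1 1 with hP
  have e012 : g.1 0 0 * P + g.1 1 0 * g.1 1 0 ^ 2 ^ (m + 1) + g.1 2 0 * g.1 0 0 ^ 2 ^ (m + 1)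
      = 0 := by grind
  have e013 : g.1 0 0 * g.1 2 0 ^ 2 ^ (m + 1) + g.1 1 0 * P + g.1 3 0 * g.1 0 0 ^ 2 ^ (m + 1)
      = 0 := by grind
  have e123 : g.1 1 0 * g.1 3 0 ^ 2 ^ (m + 1) + g.1 2 0 * g.1 2 0 ^ 2 ^ (m + 1) + g.1 3 0 * P
      = 0 := by grind
  have e023 : g.1 0 0 * g.1 3 0 ^ 2 ^ (m + 1) + g.1 2 0 * P + g.1 3 0 * g.1 1 0 ^ 2 ^ (m + 1)
      = 0 := by grind
  have he : 2 ^ (m + 1) ≠ 0 := by positivity
  refine ⟨fun h3 => ?_, ?_⟩
  rotate_left
  · linear_combination g.1 3 0 * e023 + g.1 2 0 * e123 - g.1 2 0 * g.1 3 0 * P * h2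
  have h20 : g.1 2 0 = 0 := by
    simp [h3, zero_pow he] at e123
    simpa [he] using e123
  refine ⟨h20, ?_⟩
  simp [h3, h20, zero_pow he] at e012 e013
  rcases e013 with h | h
  · exact h
  · simpa [h, he] using e012

/-- An element fixing the first line is in the Borel subgroup. -/
theorem exists_borel (hF : Fintype.card F = 2 ^ (2 * m + 1)) (h : Sz F (2 ^ (m + 1)))
    (h1 : h.1.1 1 0 = 0) (h2' : h.1.1 2 0 = 0) (h3 : h.1.1 3 0 = 0) :
    ∃ (s : Fˣ) (a b : F), h = T hF s * U hF a b ∧ (h.1.1 0 0 = 1 → s = 1) := by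
  obtain ⟨hsp, hst⟩ := sz_mem h.2
  have hC := sp4_col hsp
  have c01 := congrFun (congrFun hC 0) 1
  have c02 := congrFun (congrFun hC 0) 2
  have c03 := congrFun (congrFun hC 0) 3
  have c12 := congrFun (congrFun hC 1) 2
  have s1 := congrFun (congrFun hst 1) 0
  have s0 := congrFun (congrFun hst 0) 0
  have he : 2 ^ (m + 1) ≠ 0 := by positivity
  simp [Matrix.mul_apply, Fin.sum_univ_four, antiJ, h1, h2', h3] at c01 c02 c03 c12
  simp [star4, pairOf, h1, h2', h3, zero_pow he] at s1 s0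
  set M := h.1.1 with hM
  have hν : M 0 0 ≠ 0 := left_ne_zero_of_mul_eq_one c03
  have h31 : M 3 1 = 0 := c01.resolve_left hν
  have h32 : M 3 2 = 0 := c02.resolve_left hν
  have h21 : M 2 1 = 0 := s1.resolve_left hν
  simp [h31, h32, h21] at c12
  have h11 : M 1 1 ≠ 0 := left_ne_zero_of_mul_eq_one c12
  set s : Fˣ := Units.mk0 (M 1 1) h11 with hs
  have hs1 : (s : F) ^ 2 ^ (m + 1) * (s : F) = M 0 0 := by
    have := congrArg (· ^ 2 ^ (m + 1)) s0
    simp only [mul_pow, pow_q₀_sq hF] at this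
    simp only [hs, Units.val_mk0]
    refine mul_left_cancel₀ hν ?_
    rw [← s0] at this
    linear_combination this
  set u := (T hF s)⁻¹ * h with hu
  refine ⟨s, u.1.1 0 1, u.1.1 0 2, ?_, fun h00 => ?_⟩
  · have huval : ∀ i j, u.1.1 i j = (torus (2 ^ (m + 1)) s).inv i i * M i j := by
      intro i j
      simp only [hu, T, Subgroup.coe_mul, Subgroup.coe_inv, Units.val_mul, Units.inv_mk, torus]
      rw [← hM]
      simp [Matrix.diagonal_mul]
    have hu' : u = U hF (u.1.1 0 1) (u.1.1 0 2) := by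
      refine Subtype.ext (eq_uUnit hF u.2 (fun i => ?_) (fun i j hij => ?_))
      · rw [huval]
        fin_cases i <;> simp [torus]
        · rw [pow_succ, hs1, inv_mul_cancel₀ hν]
        · simp [hs, h11]
        · simpa [hs] using c12
        · rw [pow_succ, hs1]; exact c03
      · rw [huval]
        fin_cases i <;> fin_cases j <;> simp at hij <;> simp [h1, h2', h3, h31, h32, h21]
    calc h = T hF s * u := by rw [hu, mul_inv_cancel_left]
      _ = _ := by rw [← hu']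
  · rw [h00, one_mul, one_pow] at s0
    exact Units.ext (by simp [hs, s0])

/-- Elements of the big cell become Borel elements after a Weyl move. -/
theorem exists_move (hF : Fintype.card F = 2 ^ (2 * m + 1)) (g : Sz F (2 ^ (m + 1)))
    (h3 : g.1.1 3 0 ≠ 0) :
    ∃ (s : Fˣ) (a b : F), W hF * U hF (g.1.1 2 0 / g.1.1 3 0) (g.1.1 1 0 / g.1.1 3 0) * g
      = T hF s * U hF a b ∧ (g.1.1 3 0 = 1 → s = 1) := by
  have h2 : (2 : F) = 0 := CharTwo.two_eq_zero
  set x := g.1.1 2 0 / g.1.1 3 0 with hx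
  set y := g.1.1 1 0 / g.1.1 3 0 with hy
  set h := W hF * U hF x y * g with hh
  have hrow : ∀ i, h.1.1 i 0 = (uMat m x y *ᵥ fun k => g.1.1 k 0) (Fin.rev i) := by
    intro i
    simp only [hh, W, U, Subgroup.coe_mul, Units.val_mul, uUnit_val, Matrix.mul_assoc]
    generalize uMat m x y = A
    generalize g.1.1 = B
    fin_cases i <;>
      simp [antiJUnit, antiJ, Matrix.mul_apply, Matrix.mulVec, dotProduct, Fin.sum_univ_four]
  have e1 : h.1.1 1 0 = 0 := by
    rw [hrow]; simp [uMat, Matrix.mulVec, dotProduct, Fin.sum_univ_four, hx]; field_simp; grind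
  have e2 : h.1.1 2 0 = 0 := by
    rw [hrow]; simp [uMat, Matrix.mulVec, dotProduct, Fin.sum_univ_four, hx, hy]; field_simp
    grind
  have e3 : h.1.1 3 0 = 0 := by
    have hc := (col_zero hF g.2).2
    rw [hrow]
    simp [uMat, Matrix.mulVec, dotProduct, Fin.sum_univ_four, hx, hy, div_pow]
    field_simp
    grind
  have e0 : h.1.1 0 0 = g.1.1 3 0 := by
    rw [hrow]; simp [uMat, Matrix.mulVec, dotProduct, Fin.sum_univ_four]
  obtain ⟨s, a, b, he, hs⟩ := exists_borel hF h e1 e2 e3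
  exact ⟨s, a, b, he, fun h1 => hs (e0.trans h1)⟩

/-- A homomorphism trivial on the centre of the unipotent radical is trivial. -/
theorem hom_eq_one (hm : 1 ≤ m) (hF : Fintype.card F = 2 ^ (2 * m + 1)) {H : Type*} [Monoid H]
    (φ₀ : Sz F (2 ^ (m + 1)) →* H) (hZ : ∀ b, φ₀ (U hF 0 b) = 1) (g : Sz F (2 ^ (m + 1))) :
    φ₀ g = 1 := by
  classical
  suffices h : φ₀.toHomUnits g = 1 by
    have := congrArg Units.val h
    simpa using this
  set φ := φ₀.toHomUnits with hφ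
  have hZ' : ∀ b, φ (U hF 0 b) = 1 := fun b => Units.ext (by simpa [hφ] using hZ b)
  have he : 2 ^ (m + 1) ≠ 0 := by positivity
  set E : F → Hˣ := fun a => φ (U hF a 0) with hE
  have hUE : ∀ a b, φ (U hF a b) = E a := by
    intro a b
    rw [show U hF a b = U hF a 0 * U hF 0 b by rw [U_mul]; simp [zero_pow he], map_mul, hZ',
      mul_one]
  have hEadd : ∀ a c, E a * E c = E (a + c) := by
    intro a c
    simp only [hE]
    rw [← map_mul, U_mul, hUE]
  have hE0 : E 0 = 1 := hZ' 0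
  have hEsq : ∀ a, E a * E a = 1 := fun a => by rw [hEadd, CharTwo.add_self_eq_zero, hE0]
  have hTE : ∀ (s : Fˣ) a, φ (T hF s) * E a = E ((s : F) ^ 2 ^ (m + 1) * a) * φ (T hF s) := by
    intro s a
    simp only [hE]
    rw [← map_mul, T_mul_U, map_mul, mul_zero]
  have hW2 : φ (W hF) * φ (W hF) = 1 := by rw [← map_mul, W_mul_W, map_one]
  obtain ⟨c, hc⟩ : ∃ c, φ (W hF) = E c := by
    set g₁ := W hF * U hF 0 1 * W hF with hg₁
    have h30 : g₁.1.1 3 0 = 1 := by
      simp only [hg₁, W, U, Subgroup.coe_mul, Units.val_mul, uUnit_val]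
      simp [antiJUnit, antiJ, uMat, Matrix.mul_apply, Fin.sum_univ_four, zero_pow he]
    obtain ⟨s, a, b, heq, hs⟩ := exists_move hF g₁ (by rw [h30]; exact one_ne_zero)
    have hT1 : φ (T hF 1) = 1 := by
      have h1 : φ (T hF 1) * φ (T hF 1) = φ (T hF 1) := by rw [← map_mul, T_mul, one_mul]
      exact mul_left_cancel (h1.trans (mul_one _).symm)
    have := congrArg φ heq
    rw [hs h30] at this
    simp only [map_mul, hg₁, hUE, hT1, one_mul, hE0, mul_one, hW2] at this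
    refine ⟨a + g₁.1.1 2 0 / g₁.1.1 3 0, ?_⟩
    rw [← hEadd, ← this, hg₁, mul_assoc, hEsq, mul_one]
  have hT : ∀ s, φ (T hF s) = 1 := by
    intro s
    have h1 : E c * φ (T hF s) * E c = φ (T hF s⁻¹) := by
      rw [← hc, ← map_mul, ← map_mul, W_mul_T]
    rw [mul_assoc, hTE, ← mul_assoc, hEadd] at h1
    set d := c + (s : F) ^ 2 ^ (m + 1) * c with hd
    have h2 : φ (T hF s⁻¹) * φ (T hF s) = 1 := by
      rw [← map_mul, T_mul, inv_mul_cancel]
      have h1' : φ (T hF 1) * φ (T hF 1) = φ (T hF 1) := by rw [← map_mul, T_mul, one_mul]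
      exact mul_left_cancel (h1'.trans (mul_one _).symm)
    rw [← h1, mul_assoc] at h2
    have h3 : φ (T hF s) * φ (T hF s) = E d := by
      calc φ (T hF s) * φ (T hF s) = (E d * E d) * (φ (T hF s) * φ (T hF s)) := by rw [hEsq, one_mul]
        _ = E d * (E d * (φ (T hF s) * φ (T hF s))) := mul_assoc _ _ _
        _ = E d := by rw [h2, mul_one]
    have h4 : φ (T hF s) ^ 4 = 1 := by
      exact (pow_mul (φ (T hF s)) 2 2).trans (by rw [pow_two, pow_two, h3, hEsq])
    have hpow : ∀ n, φ (T hF s) ^ (n + 1) = φ (T hF (s ^ (n + 1))) := by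
      intro n
      induction n with
      | zero => simp
      | succ n ih => rw [pow_succ, ih, ← map_mul, T_mul, ← pow_succ]
    obtain ⟨k, hk⟩ : 4 ∣ Fintype.card F := by
      rw [hF, show (4 : ℕ) = 2 ^ 2 by rfl]; exact Nat.pow_dvd_pow 2 (by omega)
    obtain ⟨n, hn⟩ := Nat.exists_eq_add_one_of_ne_zero (Fintype.card_ne_zero (α := F))
    have h5 := hpow n
    rw [← hn, hk, pow_mul, h4, one_pow, ← hk] at h5
    rw [show s ^ Fintype.card F = s from Units.ext (by
      rw [Units.val_pow_eq_pow_val, FiniteField.pow_card])] at h5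
    exact h5.symm
  have hE1 : ∀ a : F, a ≠ 0 → E a = E 1 := by
    intro a ha
    obtain ⟨r, hr⟩ := (bijective_iterateFrobenius F 2 (m + 1)).2 a
    rw [iterateFrobenius_def] at hr
    have hr0 : r ≠ 0 := by rintro rfl; exact ha (by simpa [zero_pow he] using hr.symm)
    have := hTE (Units.mk0 r hr0) 1
    rw [hT, one_mul, mul_one, Units.val_mk0, mul_one, hr] at this
    exact this.symm
  have hEall : ∀ a, E a = 1 := by
    obtain ⟨x, hx0, hx1⟩ : ∃ x : F, x ≠ 0 ∧ x ≠ 1 := by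
      by_contra h
      push Not at h
      have : (Finset.univ : Finset F) ⊆ {0, 1} := fun y _ => by
        rcases eq_or_ne y 0 with rfl | hy
        · simp
        · simp [h y hy]
      have := (Finset.card_le_card this).trans Finset.card_le_two
      rw [Finset.card_univ, hF] at this
      have : 2 ^ 3 ≤ 2 ^ (2 * m + 1) := Nat.pow_le_pow_right (by norm_num) (by omega)
      omega
    have h := hEadd 1 x
    rw [hE1 x hx0, hE1 (1 + x) (fun h0 => hx1 ((CharTwo.add_eq_zero.1 h0).symm))] at h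
    intro a
    rcases eq_or_ne a 0 with rfl | ha
    · exact hE0
    · rw [hE1 a ha]; exact mul_eq_left.1 h
  have hB : ∀ s a b, φ (T hF s * U hF a b) = 1 := fun s a b => by
    rw [map_mul, hT, hUE, hEall, one_mul]
  have hWone : φ (W hF) = 1 := by rw [hc, hEall]
  by_cases h3 : g.1.1 3 0 = 0
  · obtain ⟨h2', h1'⟩ := (col_zero hF g.2).1 h3
    obtain ⟨s, a, b, heq, -⟩ := exists_borel hF g h1' h2' h3
    rw [heq, hB]
  · obtain ⟨s, a, b, heq, -⟩ := exists_move hF g h3
    have := congrArg φ heq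
    rwa [map_mul, map_mul, hWone, hUE, hEall, one_mul, one_mul, hB] at this

end CfsgLib.SuzukiLaws
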