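import Mathlib
import Cfsg.Agent.Lib.SuzukiLaws.Structure

/-!
The lower bound for the degree of a faithful representation of a Suzuki group.
-/

set_option autoImplicit false

namespace CfsgLib.SuzukiLaws

open Cfsg.Lie

variable {F : Type*} [Field F] [Fintype F] [CharP F 2]

/-- The nontrivial sign character of `ZMod 2`. -/
noncomputable def signChar : AddChar (ZMod 2) ℂ :=
  AddChar.zmodChar 2 (ζ := (-1 : ℂ)) (by norm_num)

/-- The trace character of a field of characteristic two. -/
noncomputable def trChar (F : Type*) [Field F] [CharP F 2] : AddChar F ℂ :=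
  letI : Algebra (ZMod 2) F := ZMod.algebra F 2
  signChar.compAddMonoidHom (Algebra.trace (ZMod 2) F).toAddMonoidHom

theorem trChar_ne_one (y : F) (hy : y ≠ 0) : ∃ x, trChar F (y * x) ≠ 1 := by
  letI : Algebra (ZMod 2) F := ZMod.algebra F 2
  obtain ⟨z, hz⟩ := Algebra.trace_surjective (ZMod 2) F 1
  refine ⟨z / y, ?_⟩
  show signChar (Algebra.trace (ZMod 2) F (y * (z / y))) ≠ 1
  rw [mul_div_cancel₀ _ hy, hz, signChar, AddChar.zmodChar_apply, show (1 : ZMod 2).val = 1 from rfl, pow_one]
  norm_num

theorem trChar_sq_pow (k : ℕ) (x : F) : trChar F (x ^ 2 ^ k) = trChar F x := by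
  letI : Algebra (ZMod 2) F := ZMod.algebra F 2
  induction k with
  | zero => simp
  | succ k ih =>
    rw [pow_succ, pow_mul]
    show signChar (Algebra.trace (ZMod 2) F ((x ^ 2 ^ k) ^ 2)) = _
    have : Algebra.trace (ZMod 2) F ((x ^ 2 ^ k) ^ 2) = Algebra.trace (ZMod 2) F (x ^ 2 ^ k) := by
      have h := Algebra.trace_eq_of_algEquiv (FiniteField.frobeniusAlgEquivOfAlgebraic (ZMod 2) F)
        (x ^ 2 ^ k)
      simpa [FiniteField.frobeniusAlgEquivOfAlgebraic_apply] using h
    rw [this]
    exact ih

theorem trChar_mul_self (x : F) : trChar F x * trChar F x = 1 := by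
  rw [← AddChar.map_add_eq_mul, CharTwo.add_self_eq_zero, AddChar.map_zero_eq_one]

theorem sum_trChar [DecidableEq F] (y : F) :
    ∑ b : F, trChar F (y * b) = if y = 0 then (Fintype.card F : ℂ) else 0 := by
  split_ifs with h
  · simp [h]
  · obtain ⟨x, hx⟩ := trChar_ne_one y h
    have key : trChar F (y * x) * ∑ b : F, trChar F (y * b) = ∑ b : F, trChar F (y * b) := by
      rw [Finset.mul_sum]
      exact Fintype.sum_equiv (Equiv.addLeft x) _ _ fun b => by
        rw [← AddChar.map_add_eq_mul, Equiv.coe_addLeft, mul_add]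
    rw [← sub_eq_zero, ← sub_one_mul, mul_eq_zero, sub_eq_zero] at key
    exact key.resolve_left hx

variable {m : ℕ}

theorem le_dim (hm : 1 ≤ m) (hF : Fintype.card F = 2 ^ (2 * m + 1)) {V : Type*} [AddCommGroup V]
    [Module ℂ V] [FiniteDimensional ℂ V] (ρ : Representation ℂ (Sz F (2 ^ (m + 1))) V)
    (hne : ∃ g, ρ g ≠ 1) :
    2 ^ m * (2 ^ (2 * m + 1) - 1) ≤ Module.finrank ℂ V := by
  classical
  set ψ := trChar F
  have he : 2 ^ (m + 1) ≠ 0 := by positivity
  have hq : (Fintype.card F : ℂ) ≠ 0 := by simp [Fintype.card_ne_zero]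
  set R : F → Module.End ℂ V := fun b => ρ (U hF 0 b) with hR
  have hRadd : ∀ b c, R b * R c = R (b + c) := by
    intro b c
    simp only [hR]
    rw [← map_mul, U_mul]
    simp [zero_pow he]
  have hR0 : R 0 = 1 := by simp only [hR, U_zero, map_one]
  set P : F → Module.End ℂ V :=
    fun c => (Fintype.card F : ℂ)⁻¹ • ∑ b : F, ψ (c * b) • R b with hP
  have hRP : ∀ c b, R b * P c = ψ (c * b) • P c := by
    intro c b
    simp only [hP, mul_smul_comm, Finset.mul_sum]
    rw [smul_comm (ψ (c * b))]
    congr 1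
    rw [Finset.smul_sum]
    refine Fintype.sum_equiv (Equiv.addLeft b) _ _ fun x => ?_
    rw [hRadd, Equiv.coe_addLeft, smul_smul, mul_add, AddChar.map_add_eq_mul, ← mul_assoc,
      trChar_mul_self, one_mul]
  have hPP : ∀ c d, P c * P d = if c = d then P d else 0 := by
    intro c d
    conv_lhs => rw [hP]
    simp only [smul_mul_assoc, Finset.sum_mul]
    rw [Finset.sum_congr rfl (fun b _ => (by rw [show (Fintype.card F : ℂ)⁻¹ • ∑ x : F, ψ (d * x) • R x = P d from rfl, hRP, smul_smul, ← AddChar.map_add_eq_mul, ← add_mul] :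
      ψ (c * b) • (R b * ((Fintype.card F : ℂ)⁻¹ • ∑ x : F, ψ (d * x) • R x))
        = ψ ((c + d) * b) • P d))]
    rw [← Finset.sum_smul, sum_trChar]
    by_cases h : c = d
    · rw [if_pos h, if_pos (by rw [h, CharTwo.add_self_eq_zero]), smul_smul, inv_mul_cancel₀ hq,
        one_smul]
    · rw [if_neg h, if_neg (fun h0 => h (CharTwo.add_eq_zero.1 h0)), zero_smul, smul_zero]
  have hPsum : ∑ c, P c = 1 := by
    simp only [hP, ← Finset.smul_sum]
    rw [Finset.sum_comm]
    simp only [← Finset.sum_smul, mul_comm _ (_ : F)]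
    rw [Finset.sum_eq_single 0]
    · rw [sum_trChar, if_pos rfl, hR0, smul_smul, inv_mul_cancel₀ hq, one_smul]
    · intro b _ hb
      rw [sum_trChar, if_neg hb, zero_smul]
    · simp
  -- the torus permutes the projections
  have hT : ∀ (s : Fˣ) c, P c * ρ (T hF s)
      = ρ (T hF s) * P (c * (s : F) ^ (2 ^ (m + 1) + 2)) := by
    intro s c
    simp only [hP, mul_smul_comm, smul_mul_assoc, Finset.sum_mul, Finset.mul_sum]
    congr 1
    have hk : (s : F) ^ (2 ^ (m + 1) + 2) ≠ 0 := pow_ne_zero _ s.ne_zero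
    refine (Fintype.sum_bijective (fun b => (s : F) ^ (2 ^ (m + 1) + 2) * b)
      (mulLeft_bijective₀ _ hk) _ _ fun b => ?_).symm
    simp only [hR]
    rw [← map_mul, ← map_mul, T_mul_U, mul_zero, mul_assoc]
  have hbij : ∀ c d : F, c ≠ 0 → d ≠ 0 → ∃ s : Fˣ, c * (s : F) ^ (2 ^ (m + 1) + 2) = d := by
    intro c d hc hd
    have hinj : Function.Injective (fun s : Fˣ => s ^ (2 ^ (m + 1) + 2)) := by
      intro x y hxy
      have h1 : (x / y : Fˣ) ^ (2 ^ (m + 1) + 2) = 1 := by
        rw [div_pow]; simp only at hxy; rw [hxy, div_self']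
      set z : F := ((x / y : Fˣ) : F) with hz
      have h2 : z ^ 2 ^ (m + 1) * z ^ 2 = 1 := by
        rw [← pow_add, hz, ← Units.val_pow_eq_pow_val, h1, Units.val_one]
      have h3 : (z ^ 2 ^ (m + 1)) ^ 2 ^ (m + 1) * (z ^ 2 ^ (m + 1)) ^ 2 = 1 := by
        rw [← pow_mul z (2 ^ (m + 1)) 2, mul_comm (2 ^ (m + 1)) 2, pow_mul z 2, ← mul_pow, h2,
          one_pow]
      rw [pow_q₀_sq hF] at h3
      have h4 : z = 1 := by
        have hsq : z ^ 2 = 1 ^ 2 := by
          have := mul_left_cancel₀ (pow_ne_zero 2 (Units.ne_zero (x / y)))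
            (h3.trans (by rw [mul_comm] at h2; exact h2.symm) :
              z ^ 2 * (z ^ 2 ^ (m + 1)) ^ 2 = z ^ 2 * z ^ 2 ^ (m + 1))
          have hne : z ^ 2 ^ (m + 1) ≠ 0 := pow_ne_zero _ (Units.ne_zero _)
          rw [pow_two, mul_eq_right₀ hne] at this
          rw [this, one_mul] at h2
          rw [h2, one_pow]
        exact CharTwo.sq_injective hsq
      exact div_eq_one.1 (Units.ext h4)
    obtain ⟨s, hs⟩ := (Finite.injective_iff_surjective.1 hinj) (Units.mk0 (d / c) (div_ne_zero hd hc))
    refine ⟨s, ?_⟩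
    have := congrArg Units.val hs
    simp only [Units.val_pow_eq_pow_val, Units.val_mk0] at this
    rw [this, mul_div_cancel₀ _ hc]
  -- every nontrivial character occurs
  have hnz : ∀ c, c ≠ 0 → P c ≠ 0 := by
    intro c hc h0
    have hall : ∀ d, d ≠ 0 → P d = 0 := by
      intro d hd
      obtain ⟨s, hs⟩ := hbij d c hd hc
      have := hT s d
      rw [hs, h0, mul_zero] at this
      calc P d = P d * ρ (T hF s) * ρ (T hF s)⁻¹ := by
            rw [mul_assoc, ← map_mul, mul_inv_cancel, map_one, mul_one]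
        _ = 0 := by rw [this, zero_mul]
    have hP0 : P 0 = 1 := by
      rw [← hPsum, Finset.sum_eq_single 0 (fun d _ hd => hall d hd) (by simp)]
    have hR1 : ∀ b, R b = 1 := by
      intro b
      have := hRP 0 b
      rwa [hP0, mul_one, zero_mul, AddChar.map_zero_eq_one, one_smul] at this
    obtain ⟨g, hg⟩ := hne
    exact hg (hom_eq_one hm hF ρ hR1 g)
  -- each eigenspace has dimension at least 2 ^ m
  have hdim : ∀ c, c ≠ 0 → 2 ^ m ≤ Module.finrank ℂ (LinearMap.range (P c)) := by
    intro c hc
    set W := LinearMap.range (P c) with hW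
    have hRv : ∀ b v, v ∈ W → R b v = ψ (c * b) • v := by
      rintro b v ⟨w, rfl⟩
      exact LinearMap.congr_fun (hRP c b) w
    have hcomm : ∀ a b, ρ (U hF a 0) * R b = R b * ρ (U hF a 0) := by
      intro a b
      simp only [hR]
      rw [← map_mul, ← map_mul, U_mul, U_mul]
      simp [zero_pow he]
    have hinv : ∀ a v, v ∈ W → ρ (U hF a 0) v ∈ W := by
      rintro a v ⟨w, rfl⟩
      suffices hh : P c * ρ (U hF a 0) = ρ (U hF a 0) * P c from
        ⟨ρ (U hF a 0) w, LinearMap.congr_fun hh w⟩
      simp only [hP, mul_smul_comm, smul_mul_assoc, Finset.mul_sum, Finset.sum_mul]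
      congr 1
      exact Finset.sum_congr rfl fun b _ => by rw [hcomm]
    let X : F → Module.End ℂ W := fun a => (ρ (U hF a 0)).restrict (hinv a)
    set B : F → AddChar F ℂ := fun a => ψ.compAddMonoidHom
      { toFun := fun x => c * (a * x ^ 2 ^ (m + 1) + x * a ^ 2 ^ (m + 1))
        map_zero' := by simp [zero_pow he]
        map_add' := fun x y => by rw [pow_q₀_add]; ring } with hB
    have hX : ∀ a x, X x * X a = B a x • (X a * X x) := by
      intro a x
      apply LinearMap.ext
      intro v
      apply Subtype.ext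
      show (ρ (U hF x 0) * ρ (U hF a 0)) v.1 = B a x • ((ρ (U hF a 0) * ρ (U hF x 0)) v.1)
      have hUU : U hF x 0 * U hF a 0 =
          U hF 0 (a * x ^ 2 ^ (m + 1) + x * a ^ 2 ^ (m + 1)) * (U hF a 0 * U hF x 0) := by
        rw [U_mul, U_mul, U_mul]
        congr 1
        · ring
        · simp only [zero_add, add_zero, zero_mul]
          have h2 : (2 : F) = 0 := CharTwo.two_eq_zero
          linear_combination (-(a * x ^ 2 ^ (m + 1))) * h2
      rw [← map_mul, ← map_mul, hUU, map_mul, Module.End.mul_apply]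
      refine (hRv _ _ ?_).trans rfl
      rw [map_mul]
      exact hinv _ _ (hinv _ _ v.2)
    set S : Finset (AddChar F ℂ) := Finset.univ.image B with hS
    have hfib : Fintype.card F ≤ 2 * S.card := by
      have hfib' : ∀ χ ∈ S, (Finset.univ.filter fun a => B a = χ).card ≤ 2 := by
        intro χ hχ
        obtain ⟨a₀, -, rfl⟩ := Finset.mem_image.1 hχ
        refine (Finset.card_le_card (t := {a₀, a₀ + c / c ^ 2 ^ (m + 1)}) ?_).trans
          Finset.card_le_two
        intro a ha
        rw [Finset.mem_filter] at ha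
        set d := a + a₀ with hd
        have hd1 : ∀ x, ψ (c * (d * x ^ 2 ^ (m + 1) + x * d ^ 2 ^ (m + 1))) = 1 := by
          intro x
          have := DFunLike.congr_fun ha.2 x
          simp only [hB, AddChar.compAddMonoidHom_apply, AddMonoidHom.coe_mk, ZeroHom.coe_mk] at this
          rw [hd, pow_q₀_add, show c * ((a + a₀) * x ^ 2 ^ (m + 1)
              + x * (a ^ 2 ^ (m + 1) + a₀ ^ 2 ^ (m + 1)))
            = c * (a * x ^ 2 ^ (m + 1) + x * a ^ 2 ^ (m + 1))
              + c * (a₀ * x ^ 2 ^ (m + 1) + x * a₀ ^ 2 ^ (m + 1)) by ring,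
            AddChar.map_add_eq_mul, this, trChar_mul_self]
        have hd2 : (c * d) ^ 2 ^ m + c * d ^ 2 ^ (m + 1) = 0 := by
          by_contra hne'
          obtain ⟨x, hx⟩ := trChar_ne_one _ hne'
          apply hx
          have e1 : (c * d * x ^ 2 ^ (m + 1)) ^ 2 ^ m = (c * d) ^ 2 ^ m * x := by
            rw [mul_pow, ← pow_mul, ← pow_add, show m + 1 + m = 2 * m + 1 by omega, ← hF,
              FiniteField.pow_card]
          rw [add_mul, AddChar.map_add_eq_mul, ← e1, trChar_sq_pow, ← AddChar.map_add_eq_mul]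
          rw [← hd1 x]
          congr 1
          ring
        rw [Finset.mem_insert, Finset.mem_singleton]
        rcases eq_or_ne d 0 with h0 | h0
        · exact Or.inl (CharTwo.add_eq_zero.1 h0)
        · refine Or.inr ?_
          have h := congrArg (· ^ 2 ^ (m + 1)) (CharTwo.add_eq_zero.1 hd2)
          simp only [mul_pow, pow_q₀_sq hF] at h
          rw [← pow_mul, ← pow_mul, ← pow_add, show m + (m + 1) = 2 * m + 1 by omega, ← hF,
            FiniteField.pow_card, FiniteField.pow_card] at h
          have hce : c ^ 2 ^ (m + 1) ≠ 0 := pow_ne_zero _ hc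
          have h2 : c / c ^ 2 ^ (m + 1) = d := by
            rw [div_eq_iff hce]
            refine mul_right_cancel₀ h0 ?_
            linear_combination h
          rw [h2, hd, add_comm a, ← add_assoc, CharTwo.add_self_eq_zero, zero_add]
      calc Fintype.card F = (Finset.univ : Finset F).card := Finset.card_univ.symm
        _ = ∑ χ ∈ S, (Finset.univ.filter fun a => B a = χ).card :=
            Finset.card_eq_sum_card_image B Finset.univ
        _ ≤ ∑ _χ ∈ S, 2 := Finset.sum_le_sum hfib'
        _ = 2 * S.card := by rw [Finset.sum_const, smul_eq_mul, mul_comm]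
    have hrep : ∀ χ : S, ∃ a, B a = χ.1 := fun χ => by
      obtain ⟨a, -, ha⟩ := Finset.mem_image.1 χ.2
      exact ⟨a, ha⟩
    choose r hr using hrep
    have hXinj : ∀ a v, X a v = 0 → v = 0 := by
      intro a v hv
      have h := congrArg Subtype.val hv
      apply Subtype.ext
      have : (ρ (U hF a 0)⁻¹) (ρ (U hF a 0) v.1) = 0 := by
        rw [show ρ (U hF a 0) v.1 = 0 from h, map_zero]
      rwa [← Module.End.mul_apply, ← map_mul, inv_mul_cancel, map_one, Module.End.one_apply] at this
    have hWne : ∃ v : W, v ≠ 0 := by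
      have hWbot : W ≠ ⊥ := fun h => hnz c hc (LinearMap.range_eq_bot.1 h)
      obtain ⟨v, hv, hv0⟩ := Submodule.exists_mem_ne_zero_of_ne_bot hWbot
      exact ⟨⟨v, hv⟩, fun h => hv0 (congrArg Subtype.val h)⟩
    have hli : LinearIndependent ℂ (fun χ : S => X (r χ)) := by
      rw [Fintype.linearIndependent_iff]
      intro g hg χ
      obtain ⟨v, hv⟩ := hWne
      have h1 : ∀ x, ∀ v, ∑ χ : S, (g χ * χ.1 x) • X (r χ) v = 0 := by
        intro x
        have h := congrArg (fun Y => X x * Y) hg
        simp only [Finset.mul_sum, mul_smul_comm, mul_zero] at h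
        have hterm : ∀ χ ∈ (Finset.univ : Finset S),
            g χ • (X x * X (r χ)) = (g χ * χ.1 x) • (X (r χ) * X x) := fun χ _ => by
          rw [hX (r χ) x, hr, smul_smul]
        rw [Finset.sum_congr rfl hterm] at h
        intro v
        obtain ⟨v', rfl⟩ : ∃ v', X x v' = v :=
          (LinearMap.injective_iff_surjective.1 ((injective_iff_map_eq_zero _).2 (hXinj x))) v
        have := LinearMap.congr_fun h v'
        simpa [Module.End.mul_apply, LinearMap.sum_apply] using this
      have h2 : ∀ φ : Module.Dual ℂ W, g χ * φ (X (r χ) v) = 0 := by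
        intro φ
        have := Fintype.linearIndependent_iff.1
          ((AddChar.linearIndependent F ℂ).comp (fun χ : S => χ.1) Subtype.val_injective)
          (fun χ => g χ * φ (X (r χ) v)) ?_ χ
        · exact this
        funext x
        have := congrArg φ (h1 x v)
        simp only [map_sum, map_smul, smul_eq_mul, map_zero] at this
        simp only [Finset.sum_apply, Function.comp_apply, Pi.smul_apply, smul_eq_mul, Pi.zero_apply]
        rw [← this]
        exact Finset.sum_congr rfl fun _ _ => by ring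
      by_contra hg0
      exact hv (hXinj _ _ ((Module.forall_dual_apply_eq_zero_iff ℂ _).1
        fun φ => (mul_eq_zero.1 (h2 φ)).resolve_left hg0))
    have hcard := hli.fintype_card_le_finrank
    rw [Fintype.card_coe, Module.finrank_linearMap] at hcard
    rw [hF, show 2 ^ (2 * m + 1) = 2 * (2 ^ m * 2 ^ m) by rw [← pow_add, pow_succ', two_mul m]]
      at hfib
    exact Nat.mul_self_le_mul_self_iff.1
      ((Nat.le_of_mul_le_mul_left hfib (by norm_num)).trans hcard)
  -- the eigenspaces are independent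
  set c₀ := {c : F // c ≠ 0}
  let Φ : (∀ c : c₀, LinearMap.range (P c.1)) →ₗ[ℂ] V :=
    ∑ c : c₀, (LinearMap.range (P c.1)).subtype ∘ₗ LinearMap.proj c
  have hΦ : Function.Injective Φ := by
    rw [injective_iff_map_eq_zero]
    intro v hv
    funext d
    apply Subtype.ext
    have h := congrArg (P d.1) hv
    simp only [Φ, LinearMap.coe_sum, Finset.sum_apply, LinearMap.comp_apply, LinearMap.proj_apply,
      Submodule.subtype_apply, map_sum, map_zero] at h
    rw [Finset.sum_eq_single d] at h
    · obtain ⟨w, hw⟩ := (v d).2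
      rw [← hw, ← Module.End.mul_apply, hPP, if_pos rfl, hw] at h
      exact h
    · intro e _ hed
      obtain ⟨w, hw⟩ := (v e).2
      rw [← hw, ← Module.End.mul_apply, hPP, if_neg (fun hh => hed (Subtype.ext hh.symm))]
      rfl
    · simp
  have h1 := LinearMap.finrank_le_finrank_of_injective hΦ
  rw [Module.finrank_pi_fintype] at h1
  refine le_trans ?_ h1
  calc 2 ^ m * (2 ^ (2 * m + 1) - 1) = ∑ _c : c₀, 2 ^ m := by
        simp [c₀, Fintype.card_subtype_compl, hF, mul_comm]
    _ ≤ _ := Finset.sum_le_sum fun c _ => hdim c.1 c.2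

end CfsgLib.SuzukiLaws
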